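import Cfsg.Agent.H782.CX.Wts
import Cfsg.Agent.H782.CX.Sec
import Cfsg.Agent.H782.CX.Gamma
set_option linter.all false

/-!
# The exceptional configuration: elementary facts (helper782, block (W6) of S5267)
-/

set_option autoImplicit false
set_option linter.unusedSectionVars false

namespace Cfsg.Agent.H782.CX

open Subgroup Cfsg.Agent.H467.MaxClass Cfsg.Agent.H786 Cfsg.Agent.H779.Core
open scoped commutatorElement

universe u

theorem nmh_apply {P : Type u} [Group P] {E : Subgroup P} (s : normalizer (E : Set P)) (e : E) :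
    ((E.normalizerMonoidHom s e : E) : P) = s * e * (s : P)⁻¹ := rfl

variable {P : Type u} [Group P] [Finite P] {p n a t l : ℕ} {W : ℕ → Subgroup P} [hW1 : (W 1).Normal]
  [hp : Fact p.Prime] {A : Subgroup (MulAut (W 1))} {E : Subgroup P} {B H : Subgroup (MulAut E)} {v z : P}
  {k : MulAut E}

section facts

omit [Finite P] in
theorem z_W1 (c : CfgX p n W A E B H) (d : XData p n W E B H a t l v z k) : z ∈ W 1 :=
  c.mc.antitone (by have := d.three_le_t; omega) d.z_mem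

omit [Finite P] in
theorem z_norm (c : CfgX p n W A E B H) (d : XData p n W E B H a t l v z k) : z ∈ normalizer (E : Set P) := by
  have h3 := d.three_le_t
  have key : ∀ y ∈ W (t - 1), ∀ e ∈ E, y * e * y⁻¹ ∈ E := by
    intro y hy e he
    have h1 : ⁅y, e⁆ ∈ W (t - 1 + 1) := c.mc.comm_comm_mem hy (c.E_le he)
    rw [Nat.sub_add_cancel (by omega)] at h1
    have h2 : y * e * y⁻¹ = ⁅y, e⁆ * e := by rw [commutatorElement_def]; group
    rw [h2]
    exact mul_mem (d.Wt_le h1) he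
  rw [mem_normalizer_iff]
  intro e
  refine ⟨fun he => key z d.z_mem e he, fun he => ?_⟩
  have h1 := key z⁻¹ (inv_mem d.z_mem) _ he
  convert h1 using 1
  group

omit [Finite P] in
theorem v_W1 (c : CfgX p n W A E B H) (d : XData p n W E B H a t l v z k) : v ∈ W 1 := c.E_le d.v_E

omit [Finite P] in
theorem center_comm (c : CfgX p n W A E B H) {w : P} (hw : w ∈ W (n - 1)) (x : P) : Commute w x :=
  c.mc.center_le hw x

omit [Finite P] in
theorem mem_V0 (c : CfgX p n W A E B H) {w : P} (hw : w ∈ zpowers v ⊔ W (n - 1)) :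
    ∃ (i : ℤ) (w' : P), w' ∈ W (n - 1) ∧ w = v ^ i * w' := by
  have hn := c.mc.normal (n - 1)
  obtain ⟨y, hy, w', hw', rfl⟩ := Subgroup.mem_sup_of_normal_right.1 hw
  obtain ⟨i, rfl⟩ := mem_zpowers_iff.1 hy
  exact ⟨i, w', hw', rfl⟩

omit [Finite P] in
theorem vz_ne (c : CfgX p n W A E B H) (d : XData p n W E B H a t l v z k) : ⁅v, z⁆ ≠ 1 := by
  intro h
  apply d.z_not
  rw [d.E_iff z (z_W1 c d)]
  exact (commutatorElement_eq_one_iff_commute.1 h).symm

omit [Finite P] in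
theorem vz_mem (c : CfgX p n W A E B H) (d : XData p n W E B H a t l v z k) : ⁅v, z⁆ ∈ W (n - 1) := by
  have h1 := c.mc.comm_comm_mem d.v_mem d.z_mem
  have h3 := d.three_le_t
  have h4 := d.a_add_t
  rwa [show a + (t - 1) = n - 1 by omega] at h1

/-- commutators with `z` of elements of index `a` -/
theorem rz_ne (c : CfgX p n W A E B H) (d : XData p n W E B H a t l v z k) {r : P} (hr : r ∈ W a)
    (hr' : r ∉ W (a + 1)) : ⁅r, z⁆ ≠ 1 := by
  have h3 := d.three_le_t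
  have h4 := d.a_add_t
  have h5 := c.five
  refine Cfsg.Agent.H793.ExcA.pairing c.mc (by omega) c.exc (i := a) (j := t - 1) d.one_le_a (by omega) (by omega) hr hr'
    d.z_mem ?_
  rw [Nat.sub_add_cancel (by omega)]
  exact fun h => d.z_not (d.Wt_le h)

omit [Finite P] in
theorem rz_mem (c : CfgX p n W A E B H) (d : XData p n W E B H a t l v z k) {r : P} (hr : r ∈ W a) :
    ⁅r, z⁆ ∈ W (n - 1) := by
  have h1 := c.mc.comm_comm_mem hr d.z_mem
  have h3 := d.three_le_t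
  have h4 := d.a_add_t
  rwa [show a + (t - 1) = n - 1 by omega] at h1

omit [Finite P] in
/-- a nontrivial subgroup of the centre -/
theorem Z_le (c : CfgX p n W A E B H) {R : Subgroup P} {w : P} (hw : w ∈ W (n - 1)) (hw1 : w ≠ 1) (hR : w ∈ R) :
    W (n - 1) ≤ R := by
  have h4 := c.mc.four_le
  intro y hy
  obtain ⟨i, hi⟩ := c.mc.exists_zpow (i := n - 1) (by omega) hw
    (by rw [Nat.sub_add_cancel (by omega), c.mc.bot, Subgroup.mem_bot]; exact hw1) hy
  rw [Nat.sub_add_cancel (by omega), c.mc.bot, Subgroup.mem_bot] at hi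
  have h1 : y = w ^ i := (inv_mul_eq_one.1 hi).symm
  rw [h1]
  exact zpow_mem hR i

omit [Finite P] in
theorem Z_le_E (c : CfgX p n W A E B H) : W (n - 1) ≤ E := fun _ hw => c.cent _ fun e _ => center_comm c hw e

omit [Finite P] in
theorem V0_le_E (c : CfgX p n W A E B H) (d : XData p n W E B H a t l v z k) : zpowers v ⊔ W (n - 1) ≤ E :=
  sup_le (by rw [zpowers_le]; exact d.v_E) (Z_le_E c)

omit [Finite P] in
theorem Z_pow (c : CfgX p n W A E B H) {w : P} (hw : w ∈ W (n - 1)) : w ^ p = 1 := by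
  have h4 := c.mc.four_le
  have h1 := c.mc.relIndex (n - 1) (by omega)
  rw [Nat.sub_add_cancel (by omega), c.mc.bot, Subgroup.relIndex_bot_left] at h1
  have h2 := pow_card_eq_one' (x := (⟨w, hw⟩ : W (n - 1)))
  rw [h1] at h2
  exact congrArg Subtype.val h2

/-- `N_P(E) ≤ W 1` -/
theorem norm_le (c : CfgX p n W A E B H) (d : XData p n W E B H a t l v z k) {y : P}
    (hy : y ∈ normalizer (E : Set P)) : y ∈ W 1 ∧ ⁅v, y⁆ ∈ W (n - 1) := by
  have h3 := d.three_le_t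
  have h4 := d.a_add_t
  have h1a := d.one_le_a
  have h5 := c.five
  obtain ⟨φ, hφ⟩ := exists_coord c.mc
  -- `⁅v, y⁆ ∈ V0 ⊓ W (a + 1) = Z`
  have hmem : ⁅v, y⁆ ∈ W (n - 1) := by
    have h2 := d.V0_inv _ (c.H_le (c.conj_mem ⟨y, hy⟩)) ⟨v, d.v_E⟩
      ((le_sup_left : zpowers v ≤ zpowers v ⊔ W (n - 1)) (mem_zpowers v))
    rw [nmh_apply] at h2
    have h6 : ⁅v, y⁆ ∈ zpowers v ⊔ W (n - 1) := by
      have h7 : ⁅v, y⁆ = v * (y * v * y⁻¹)⁻¹ := by rw [commutatorElement_def]; group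
      rw [h7]
      exact mul_mem ((le_sup_left : zpowers v ≤ zpowers v ⊔ W (n - 1)) (mem_zpowers v)) (inv_mem h2)
    obtain ⟨i, w', hw', hiw⟩ := mem_V0 c h6
    have h8 : ⁅v, y⁆ ∈ W (a + 1) := c.mc.comm_mem d.v_mem
    have h9 : v ^ i ∈ W (a + 1) := by
      have h10 : v ^ i = ⁅v, y⁆ * w'⁻¹ := by rw [hiw]; group
      rw [h10]
      exact mul_mem h8 (inv_mem (c.mc.antitone (by omega) hw'))
    have h11 : φ a (v ^ i) = 0 := (hφ.zero a (by omega) _ (zpow_mem d.v_mem i)).2 h9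
    rw [hφ.zpow (by omega) d.v_mem] at h11
    have h12 : φ a v ≠ 0 := fun h => d.v_not ((hφ.zero a (by omega) _ d.v_mem).1 h)
    have h13 : ((i : ℤ) : ZMod p) = 0 := (mul_eq_zero.1 h11).resolve_right h12
    rw [ZMod.intCast_zmod_eq_zero_iff_dvd] at h13
    obtain ⟨j, rfl⟩ := h13
    rw [zpow_mul, zpow_natCast, d.v_pow, one_zpow, one_mul] at hiw
    rw [hiw]
    exact hw'
  refine ⟨?_, hmem⟩
  by_contra hcon
  rw [← c.mc.Ksub_eq (by omega) h1a (by omega)] at hcon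
  apply hcon
  exact (c.mc.mem_K_iff (by omega) d.v_mem d.v_not y).2 (c.mc.antitone (by omega) hmem)

/-- `N_P(E) = ⟨z⟩ E` -/
theorem exists_z (c : CfgX p n W A E B H) (d : XData p n W E B H a t l v z k) {y : P}
    (hy : y ∈ normalizer (E : Set P)) : ∃ i : ℕ, (z ^ i)⁻¹ * y ∈ E := by
  classical
  have h4 := c.mc.four_le
  obtain ⟨hy1, hyZ⟩ := norm_le c d hy
  have hzZ := vz_mem c d
  obtain ⟨i, hi⟩ := c.mc.exists_zpow (i := n - 1) (by omega) hzZ
    (by rw [Nat.sub_add_cancel (by omega), c.mc.bot, Subgroup.mem_bot]; exact vz_ne c d) hyZ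
  rw [Nat.sub_add_cancel (by omega), c.mc.bot, Subgroup.mem_bot] at hi
  have h1 : ⁅v, y⁆ = ⁅v, z⁆ ^ i := (inv_mul_eq_one.1 hi).symm
  -- make the exponent a natural number
  obtain ⟨j, hj⟩ : ∃ j : ℕ, ⁅v, y⁆ = ⁅v, z⁆ ^ j := by
    have h2 : ⁅v, z⁆ ^ i ∈ zpowers ⁅v, z⁆ := zpow_mem (mem_zpowers _) i
    obtain ⟨j, _, hj⟩ := (IsOfFinOrder.mem_zpowers_iff_mem_range_orderOf (isOfFinOrder_of_finite ⁅v, z⁆)).1 h2 |>
      Finset.mem_image.1
    exact ⟨j, by rw [h1, ← hj]⟩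
  refine ⟨j, ?_⟩
  have hcz : ∀ j : ℕ, z ^ j * v * (z ^ j)⁻¹ = ((⁅v, z⁆ ^ j)⁻¹) * v := by
    intro j
    induction j with
    | zero => simp
    | succ j ih =>
      have hc1 := center_comm c hzZ z
      have e1 : z ^ (j + 1) * v * (z ^ (j + 1))⁻¹ = z ^ j * (z * v * z⁻¹) * (z ^ j)⁻¹ := by rw [pow_succ]; group
      have e2 : z * v * z⁻¹ = ⁅v, z⁆⁻¹ * v := by rw [commutatorElement_def]; group
      have e3 : z ^ j * (⁅v, z⁆⁻¹ * v) * (z ^ j)⁻¹ = (z ^ j * ⁅v, z⁆⁻¹ * (z ^ j)⁻¹) * (z ^ j * v * (z ^ j)⁻¹) := by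
        group
      have e4 : z ^ j * ⁅v, z⁆⁻¹ * (z ^ j)⁻¹ = ⁅v, z⁆⁻¹ := by
        have h5 : Commute (z ^ j) ⁅v, z⁆⁻¹ := (hc1.symm.pow_left j).inv_right
        rw [h5.eq, mul_assoc, mul_inv_cancel, mul_one]
      rw [e1, e2, e3, e4, ih, ← mul_assoc, pow_succ, mul_inv_rev]
  have hyv : y * v * y⁻¹ = ((⁅v, z⁆ ^ j)⁻¹) * v := by
    rw [← hj, commutatorElement_def]
    group
  have hW : (z ^ j)⁻¹ * y ∈ W 1 := mul_mem (inv_mem (pow_mem (z_W1 c d) j)) hy1
  rw [d.E_iff _ hW]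
  have h6 : z ^ j * v * (z ^ j)⁻¹ = y * v * y⁻¹ := by rw [hcz, hyv]
  change (z ^ j)⁻¹ * y * v = v * ((z ^ j)⁻¹ * y)
  calc (z ^ j)⁻¹ * y * v = (z ^ j)⁻¹ * (y * v * y⁻¹) * y := by group
    _ = (z ^ j)⁻¹ * (z ^ j * v * (z ^ j)⁻¹) * y := by rw [h6]
    _ = v * ((z ^ j)⁻¹ * y) := by group

omit [Finite P] in
theorem zp_mem (c : CfgX p n W A E B H) (d : XData p n W E B H a t l v z k) : z ^ p ∈ E := by
  have hzZ := vz_mem c d
  rw [d.E_iff _ (pow_mem (z_W1 c d) p)]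
  have hc1 := center_comm c hzZ z
  have hcz : ∀ j : ℕ, z ^ j * v = ((⁅v, z⁆ ^ j)⁻¹) * v * z ^ j := by
    intro j
    induction j with
    | zero => simp
    | succ j ih =>
      have e2 : z * v = ⁅v, z⁆⁻¹ * v * z := by rw [commutatorElement_def]; group
      have h5 : Commute (z ^ j) ⁅v, z⁆⁻¹ := (hc1.symm.pow_left j).inv_right
      calc z ^ (j + 1) * v = z ^ j * (z * v) := by rw [pow_succ]; group
        _ = z ^ j * ⁅v, z⁆⁻¹ * v * z := by rw [e2]; group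
        _ = ⁅v, z⁆⁻¹ * (z ^ j * v) * z := by rw [h5.eq]; group
        _ = ((⁅v, z⁆ ^ (j + 1))⁻¹) * v * z ^ (j + 1) := by
          rw [ih, pow_succ, mul_inv_rev, pow_succ]
          group
  change z ^ p * v = v * z ^ p
  rw [hcz, Z_pow c hzZ, inv_one, one_mul]

end facts

end Cfsg.Agent.H782.CX
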