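import Cfsg.Agent.H782.CX.TorG
set_option linter.all false

/-!
# Step (W6) of the exceptional configuration (helper782, S5267)
-/

set_option autoImplicit false
set_option linter.unusedSectionVars false

namespace Cfsg.Agent.H782.CX

open Subgroup Cfsg.Agent.H467.MaxClass Cfsg.Agent.H786 Cfsg.Agent.H779.Core
open scoped commutatorElement

universe u

variable {P : Type u} [Group P] [Finite P] {p n a t l : ℕ} {W : ℕ → Subgroup P} [hW1 : (W 1).Normal]
  [hp : Fact p.Prime] {A : Subgroup (MulAut (W 1))} {E : Subgroup P} {B H : Subgroup (MulAut E)} {v z : P}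
  {k : MulAut E} {φ : ℕ → P → ZMod p} {δ : ℕ} {g : MulAut (W 1)} {s : ZMod p}

/-- `k ^ p` as an element of `B` -/
def kB (c : CfgX p n W A E B H) (d : XData p n W E B H a t l v z k) : B := ⟨k ^ p, c.H_le (pow_mem d.k_H p)⟩

/-- `z` as an element of `N_P(E)` -/
def zN (c : CfgX p n W A E B H) (d : XData p n W E B H a t l v z k) : normalizer (E : Set P) := ⟨z, z_norm c d⟩

/-- powers of the generator of the centre -/
theorem exists_w0 (c : CfgX p n W A E B H) {w0 w : P} (hw0 : w0 ∈ W (n - 1)) (h0 : w0 ≠ 1) (hw : w ∈ W (n - 1)) :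
    ∃ j : ℕ, w = w0 ^ j := by
  classical
  have h4 := c.mc.four_le
  obtain ⟨i, hi⟩ := c.mc.exists_zpow (i := n - 1) (by omega) hw0
    (by rw [Nat.sub_add_cancel (by omega), c.mc.bot, Subgroup.mem_bot]; exact h0) hw
  rw [Nat.sub_add_cancel (by omega), c.mc.bot, Subgroup.mem_bot] at hi
  have h1 : w = w0 ^ i := (inv_mul_eq_one.1 hi).symm
  have h2 : w ∈ zpowers w0 := by rw [h1]; exact zpow_mem (mem_zpowers _) i
  obtain ⟨j, _, hj⟩ := (IsOfFinOrder.mem_zpowers_iff_mem_range_orderOf (isOfFinOrder_of_finite w0)).1 h2 |>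
    Finset.mem_image.1
  exact ⟨j, hj.symm⟩

/-- the natural module -/
theorem exists_V0 (c : CfgX p n W A E B H) (d : XData p n W E B H a t l v z k) (hP : PClosed A)
    (h : KD n a l W A H φ δ k g s) : ∃ (V : Type u) (_ : AddCommGroup V) (_ : Module (ZMod p) V)
      (τ : Representation (ZMod p) (GG E B) V) (cV : V), cV ≠ 0 ∧ τ (cl (bz c (zN c d))) cV = cV ∧
      τ (cl (kB c d)) cV = (l : ZMod p) • cV ∧ (∀ w, ∃ t : ZMod p, τ (cl (bz c (zN c d))) w - w = t • cV) ∧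
      ∃ g, ∀ t : ZMod p, τ g cV ≠ t • cV := by
  have h4 := c.mc.four_le
  have h3 := d.three_le_t
  have hat := d.a_add_t
  have h1a := d.one_le_a
  have h' := h.powp c hP
  set R : Subgroup E := (zpowers v ⊔ W (n - 1)).subgroupOf E with hR
  have hRI : Inv B R := fun b hb e he => d.V0_inv b hb e he
  have hRa : ∀ r ∈ R, (r : P) ∈ W a := by
    intro r hr
    have h1 : zpowers v ⊔ W (n - 1) ≤ W a := sup_le (by rw [zpowers_le]; exact d.v_mem) (c.mc.antitone (by omega))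
    exact h1 hr
  have hcomm : ∀ r ∈ R, ∀ e ∈ E, Commute (r : P) e := by
    intro r hr e he
    obtain ⟨i, w', hw', hrw⟩ := mem_V0 c hr
    have hrw' : (r : P) = v ^ i * w' := hrw
    rw [hrw']
    have h1 : Commute e v := (d.E_iff e (c.E_le he)).1 he
    exact Commute.mul_left (h1.symm.zpow_left i) (center_comm c hw' e)
  obtain ⟨V, i1, i2, τ, π, hπs, hπk, hπe⟩ := exists_rep (p := p) (B := B) (R := R) (R' := ⊥) inferInstance hRI
    (fun b _ e he => by rw [Subgroup.mem_bot] at he ⊢; rw [he, map_one])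
    (fun r hr e => by
      rw [Subgroup.mem_bot, commutatorElement_eq_one_iff_commute]
      exact Subtype.ext (hcomm r hr e e.2))
    (fun r hr => by
      rw [Subgroup.mem_bot]
      apply Subtype.ext
      rw [Subgroup.coe_pow]
      obtain ⟨i, w', hw', hrw⟩ := mem_V0 c hr
      have hrw' : (r : P) = v ^ i * w' := hrw
      rw [hrw', Commute.mul_pow ((center_comm c hw' _).symm), Z_pow c hw', mul_one, ← zpow_natCast, ← zpow_mul, mul_comm,
        zpow_mul, zpow_natCast, d.v_pow, one_zpow]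
      rfl)
  have hZn : n - 1 < n := by omega
  have hWn : W (n - 1 + 1) = ⊥ := by rw [Nat.sub_add_cancel (by omega)]; exact c.mc.bot
  obtain ⟨w0, hw0, hw01⟩ := h.coord.exists_eq_one c.mc hZn
  have hw0ne : w0 ≠ 1 := by
    rintro rfl
    rw [h.coord.one hZn] at hw01
    exact zero_ne_one hw01
  have hw0E : w0 ∈ E := Z_le_E c hw0
  have hw0R : (⟨w0, hw0E⟩ : E) ∈ R := (le_sup_right : W (n - 1) ≤ zpowers v ⊔ W (n - 1)) hw0
  set r0 : R := ⟨⟨w0, hw0E⟩, hw0R⟩ with hr0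
  have hpowπ : ∀ (r : R) (j : ℕ), (π (r ^ j)).toAdd = (j : ZMod p) • (π r).toAdd := by
    intro r j
    rw [map_pow, toAdd_pow, Nat.cast_smul_eq_nsmul]
  refine ⟨V, i1, i2, τ, (π r0).toAdd, ?_, ?_, ?_, ?_, ?_⟩
  · intro h1
    have h2 : π r0 = 1 := h1
    rw [hπk, Subgroup.mem_bot] at h2
    exact hw0ne (congrArg Subtype.val h2)
  · apply hπe (bz c (zN c d)) r0 r0
    apply Subtype.ext
    change w0 = z * w0 * z⁻¹
    rw [← (center_comm c hw0 z).eq, mul_inv_cancel_right]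
  · have h1 := hπe (kB c d) r0 (r0 ^ l) (by
      apply Subtype.ext
      change w0 ^ l = (((k ^ p) ⟨w0, hw0E⟩ : E) : P)
      rw [← h'.ext ⟨w0, hw0E⟩]
      change w0 ^ l = ap (g ^ p) w0
      have h2 := h'.wt.top w0 hw0
      have hm : ap (g ^ p) w0 ∈ W (n - 1) :=
        aInv_iff.mp (hP.aInv c.mc (n - 1) (by omega)) _ (pow_mem h.gA p) w0 (c.mc.antitone (by omega) hw0) hw0
      have h6 : φ (n - 1) ((w0 ^ l)⁻¹ * ap (g ^ p) w0) = 0 := by
        rw [h.coord.mul _ hZn _ (inv_mem (pow_mem hw0 l)) _ hm, h.coord.inv hZn (pow_mem hw0 l),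
          h.coord.pow hZn hw0, h2, hw01, h.hl]
        ring
      have h7 := (h.coord.zero _ hZn _ (mul_mem (inv_mem (pow_mem hw0 l)) hm)).1 h6
      rw [hWn, Subgroup.mem_bot] at h7
      exact inv_mul_eq_one.1 h7)
    exact h1.trans (hpowπ _ _)
  · intro w
    obtain ⟨r, hr⟩ := hπs (Multiplicative.ofAdd w)
    have hrw : w = (π r).toAdd := by rw [hr]; rfl
    have hzr : ⁅z, ((r : E) : P)⁆ ∈ W (n - 1) := by
      have h1 := c.mc.comm_comm_mem d.z_mem (hRa r r.2)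
      rwa [show t - 1 + a = n - 1 by omega] at h1
    obtain ⟨j, hj⟩ := exists_w0 c hw0 hw0ne hzr
    refine ⟨j, ?_⟩
    have h1 := hπe (bz c (zN c d)) r (r0 ^ j * r) (by
      apply Subtype.ext
      change w0 ^ j * ((r : E) : P) = z * ((r : E) : P) * z⁻¹
      rw [← hj, commutatorElement_def]
      group)
    have h1' : τ (cl (bz c (zN c d))) (π r).toAdd = (π (r0 ^ j * r)).toAdd := h1
    rw [hrw, h1', map_mul, toAdd_mul, hpowπ, add_sub_cancel_right]
  · have h1 := d.not_inv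
    unfold ZInv at h1
    push Not at h1
    obtain ⟨b, hb, e, he, hbe⟩ := h1
    refine ⟨cl ⟨b, hb⟩, fun t0 ht0 => hbe ?_⟩
    have hbR : b ⟨w0, hw0E⟩ ∈ R := hRI b hb _ hw0R
    have h2 := hπe ⟨b, hb⟩ r0 ⟨b ⟨w0, hw0E⟩, hbR⟩ rfl
    have h3 : (π ⟨b ⟨w0, hw0E⟩, hbR⟩).toAdd = (π (r0 ^ t0.val)).toAdd := by
      rw [← h2, hpowπ, ZMod.natCast_val, ZMod.cast_id', id]
      exact ht0
    have h5 : π ((r0 ^ t0.val)⁻¹ * ⟨b ⟨w0, hw0E⟩, hbR⟩) = 1 := by
      rw [map_mul, map_inv]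
      have h6 : π ⟨b ⟨w0, hw0E⟩, hbR⟩ = π (r0 ^ t0.val) := h3
      rw [h6, inv_mul_cancel]
    rw [hπk, Subgroup.mem_bot] at h5
    have h6 : (b ⟨w0, hw0E⟩ : E) = (⟨w0, hw0E⟩ : E) ^ t0.val := (inv_mul_eq_one.1 h5).symm
    obtain ⟨j, hj⟩ := exists_w0 c hw0 hw0ne he
    have h7 : e = (⟨w0, hw0E⟩ : E) ^ j := Subtype.ext hj
    rw [h7, map_pow, h6, ← pow_mul, Subgroup.coe_pow]
    exact pow_mem hw0 _

/-- commutators with `z` -/
theorem deg_z (c : CfgX p n W A E B H) (d : XData p n W E B H a t l v z k) {i : ℕ} (hi : 1 ≤ i) {r : P} (hr : r ∈ W i) :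
    ⁅z, r⁆ ∈ W (min (i + 3) (n - 1)) := by
  have h4 := c.mc.four_le
  have h3 := d.three_le_t
  have h5 := c.five
  rcases Nat.lt_or_ge (n - 2) (t - 1 + i) with h | h
  · exact c.mc.antitone (by omega) (c.mc.comm_comm_mem d.z_mem hr)
  · have h1 := c.mc.deg (k := n - 2) (fun j h2 h3 => c.mc.blackburn (by omega) j h2 (by omega)) i (t - 1) (by omega) hi
      (by omega)
    exact c.mc.antitone (by omega) (h1 (commutator_mem_commutator d.z_mem hr))

theorem n_le (c : CfgX p n W A E B H) : n ≤ p + 1 := by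
  by_contra hcon
  have h5 := c.five
  exact c.exc (c.mc.Ksub_last_of_le (by omega) (by omega))

/-- **the section with an element of odd weight contains the layer `a`** -/
theorem sec_a (c : CfgX p n W A E B H) (d : XData p n W E B H a t l v z k) (hP : PClosed A)
    (h : KD n a l W A H φ δ k g s) {R R' : Subgroup E} (hC : Chief p B R R') {j0 : ℕ} (hj : 1 ≤ j0) (hjn : j0 + 2 ≤ n)
    (hodd : (s ^ (δ + j0)) ^ ((p - 1) / 2) = -1)
    (hR : ∃ r ∈ R, (r : P) ∈ W j0 ∧ (r : P) ∉ W (j0 + 1))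
    (hR' : ∀ r ∈ R', (r : P) ∈ W j0 → (r : P) ∈ W (j0 + 1))
    (hZ : ∀ r ∈ R, (r : P) ∈ W (n - 1) → r ∈ R') :
    (∃ r ∈ R, (r : P) ∈ W a ∧ (r : P) ∉ W (a + 1)) ∧ ∀ r ∈ R', (r : P) ∈ W a → (r : P) ∈ W (a + 1) := by
  classical
  have h4 := c.mc.four_le
  have h5 := c.five
  have h3 := d.three_le_t
  have hat := d.a_add_t
  have h1a := d.one_le_a
  have hnp := n_le c
  have h' := h.powp c hP
  have T := tor c d hP h
  obtain ⟨V, i1, i2, τ, cV, hc0, hxc, hkc, hV, hni⟩ := exists_V0 c d hP h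
  have hq : p - 1 = 2 * ((p - 1) / 2) := by
    rcases hp.out.eq_two_or_odd with h | h <;> omega
  set q2 := (p - 1) / 2 with hq2
  have h2ne : (2 : ZMod p) ≠ 0 := by
    intro h1
    have h2 : ((2 : ℕ) : ZMod p) = 0 := by exact_mod_cast h1
    rw [ZMod.natCast_eq_zero_iff] at h2
    have := Nat.le_of_dvd (by norm_num) h2
    omega
  have hinnB : inn E ≤ B := (inn_le c).trans c.H_le
  obtain ⟨M, j1, j2, σ, π, hπs, hπk, hπe⟩ := exists_rep (p := p) (B := B) (hC.inv'.normal hinnB) hC.inv hC.inv'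
    hC.comm hC.pow
  have hMf : Finite M := Finite.of_surjective (fun r : R => (π r).toAdd) (fun y => by
    obtain ⟨r, hr⟩ := hπs (Multiplicative.ofAdd y)
    exact ⟨r, congrArg Multiplicative.toAdd hr⟩)
  have hrep : ∀ y : M, ∃ r : R, (π r).toAdd = y := fun y => by
    obtain ⟨r, hr⟩ := hπs (Multiplicative.ofAdd y)
    exact ⟨r, by rw [hr]; rfl⟩
  have hzero : ∀ r : R, ((r : E) : P) ∈ W (n - 1) → (π r).toAdd = 0 := by
    intro r hr
    have h1 : π r = 1 := (hπk r).2 (hZ r r.2 hr)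
    rw [h1]
    rfl
  set x := cl (bz c (zN c d)) with hx
  set κ := cl (kB c d) with hκ
  -- jumps of `x`
  have hstep : ∀ i, 1 ≤ i → ∀ r : R, ((r : E) : P) ∈ W i →
      ∃ r2 : R, ((r2 : E) : P) ∈ W (min (i + 3) (n - 1)) ∧ (σ x - 1) (π r).toAdd = (π r2).toAdd := by
    intro i hi r hr
    have hf : (bz c (zN c d) : MulAut E) r ∈ R := hC.inv _ (bz c (zN c d)).2 _ r.2
    refine ⟨⟨(bz c (zN c d) : MulAut E) r, hf⟩ * r⁻¹, ?_, ?_⟩
    · have h1 := deg_z c d hi hr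
      have h2 : ((((⟨(bz c (zN c d) : MulAut E) r, hf⟩ * r⁻¹ : R) : E)) : P) = ⁅z, ((r : E) : P)⁆ := by
        rw [commutatorElement_def]
        rfl
      rw [h2]
      exact h1
    · have h1 := hπe (bz c (zN c d)) r ⟨_, hf⟩ rfl
      have h1' : σ x (π r).toAdd = (π ⟨(bz c (zN c d) : MulAut E) r, hf⟩).toAdd := h1
      rw [LinearMap.sub_apply, Module.End.one_apply, h1', map_mul, toAdd_mul, map_inv, toAdd_inv, sub_eq_add_neg]
  have hiter : ∀ j : ℕ, ∀ r : R, ∃ r2 : R, ((r2 : E) : P) ∈ W (min (1 + 3 * j) (n - 1)) ∧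
      ((σ x - 1) ^ j) (π r).toAdd = (π r2).toAdd := by
    intro j
    induction j with
    | zero =>
      intro r
      exact ⟨r, c.mc.antitone (by omega) (c.E_le (r : E).2), by rw [pow_zero, Module.End.one_apply]⟩
    | succ j ih =>
      intro r
      obtain ⟨r2, hr2, hr2'⟩ := ih r
      obtain ⟨r3, hr3, hr3'⟩ := hstep (min (1 + 3 * j) (n - 1)) (by omega) r2 hr2
      refine ⟨r3, c.mc.antitone (by omega) hr3, ?_⟩
      rw [pow_succ', Module.End.mul_apply, hr2', hr3']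
  have hD : (σ x - 1) ^ ((n - 3) / 3 + 1) = 0 := by
    refine LinearMap.ext fun y => ?_
    obtain ⟨r, rfl⟩ := hrep y
    obtain ⟨r2, hr2, hr2'⟩ := hiter ((n - 3) / 3 + 1) r
    rw [hr2', LinearMap.zero_apply]
    exact hzero r2 (c.mc.antitone (by omega) hr2)
  -- the odd vector
  obtain ⟨r0, hr0R, hr0, hr0'⟩ := hR
  have hφr0 : φ j0 (r0 : P) ≠ 0 := fun hh => hr0' ((h.coord.zero j0 (by omega) _ hr0).1 hh)
  have hf0 : (((kB c d) ^ q2 : B) : MulAut E) r0 ∈ R := hC.inv _ ((kB c d) ^ q2).2 _ hr0R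
  have hσ0 : σ (κ ^ q2) (π ⟨r0, hr0R⟩).toAdd = (π ⟨_, hf0⟩).toAdd := hπe ((kB c d) ^ q2) ⟨r0, hr0R⟩ ⟨_, hf0⟩ rfl
  have hf0P : (((((kB c d) ^ q2 : B) : MulAut E) r0 : E) : P) = ap ((g ^ p) ^ q2) (r0 : P) := (h'.ext.pow c.E_le q2 r0).symm
  have hf0W : (((((kB c d) ^ q2 : B) : MulAut E) r0 : E) : P) ∈ W j0 := by
    rw [hf0P]
    exact aInv_iff.mp (hP.aInv c.mc j0 hj) _ (pow_mem (pow_mem h.gA p) q2) _ (c.E_le r0.2) hr0
  have hφf0 : φ j0 (((((kB c d) ^ q2 : B) : MulAut E) r0 : E) : P) = - φ j0 (r0 : P) := by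
    rw [hf0P, (h'.wt.pow c.mc hP h'.gA q2).low j0 hj hjn _ hr0, ← pow_mul, mul_comm q2, pow_mul, hodd, neg_one_mul]
  have hy₀ : (π ⟨r0, hr0R⟩).toAdd - σ (κ ^ q2) (π ⟨r0, hr0R⟩).toAdd ≠ 0 := by
    intro h0
    rw [hσ0, sub_eq_add_neg, ← toAdd_inv, ← toAdd_mul, ← map_inv, ← map_mul] at h0
    have h1 : π (⟨r0, hr0R⟩ * (⟨_, hf0⟩ : R)⁻¹) = 1 := h0
    rw [hπk] at h1
    have h2 : ((r0 : P) * (((((kB c d) ^ q2 : B) : MulAut E) r0 : E) : P)⁻¹) ∈ W j0 := mul_mem hr0 (inv_mem hf0W)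
    have h6 : φ j0 ((r0 : P) * (((((kB c d) ^ q2 : B) : MulAut E) r0 : E) : P)⁻¹) = 0 :=
      (h.coord.zero j0 (by omega) _ h2).2 (hR' _ h1 h2)
    rw [h.coord.mul j0 (by omega) _ hr0 _ (inv_mem hf0W), h.coord.inv (by omega) hf0W, hφf0, neg_neg, ← two_mul] at h6
    exact (mul_ne_zero h2ne hφr0) h6
  have hκκ : κ ^ q2 * κ ^ q2 = 1 := by rw [← pow_add, ← two_mul, ← hq]; exact T.kq
  obtain ⟨y, hy0, hy⟩ := T.gamma τ hc0 hxc hkc hV hni σ hD (by omega) hy₀ (by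
    change σ (κ ^ q2) _ = _
    have h1 : σ (κ ^ q2) (σ (κ ^ q2) (π ⟨r0, hr0R⟩).toAdd) = (π ⟨r0, hr0R⟩).toAdd := by
      rw [← Module.End.mul_apply, ← map_mul, hκκ, map_one, Module.End.one_apply]
    rw [map_sub, h1, neg_sub])
  have hy' : (l : ZMod p) • σ κ y = y := hy
  -- a representative of maximal index
  obtain ⟨i, r, hi, hin, hry, hri, hrmax⟩ : ∃ (i : ℕ) (r : R), 1 ≤ i ∧ i + 2 ≤ n ∧ (π r).toAdd = y ∧
      ((r : E) : P) ∈ W i ∧ ∀ r' : R, (π r').toAdd = y → ((r' : E) : P) ∉ W (i + 1) := by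
    by_contra hcon
    push Not at hcon
    have key : ∀ i : ℕ, i + 2 ≤ n → ∃ r : R, (π r).toAdd = y ∧ ((r : E) : P) ∈ W (i + 1) := by
      intro i
      induction i with
      | zero =>
        intro _
        obtain ⟨r, hr⟩ := hrep y
        exact ⟨r, hr, c.E_le (r : E).2⟩
      | succ i ih =>
        intro hin
        obtain ⟨r, hr, hr'⟩ := ih (by omega)
        exact hcon (i + 1) r (by omega) hin hr hr'
    obtain ⟨r, hr, hr'⟩ := key (n - 2) (by omega)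
    apply hy0
    rw [← hr]
    exact hzero r (by rwa [show n - 2 + 1 = n - 1 by omega] at hr')
  have hφr : φ i ((r : E) : P) ≠ 0 := fun hh => hrmax r hry ((h.coord.zero i (by omega) _ hri).1 hh)
  have hkill : ∀ r' ∈ R', (r' : P) ∈ W i → (r' : P) ∈ W (i + 1) := by
    intro r' hr' hr'i
    by_contra hcon
    have hφr' : φ i (r' : P) ≠ 0 := fun hh => hcon ((h.coord.zero i (by omega) _ hr'i).1 hh)
    set m := (φ i ((r : E) : P) / φ i (r' : P)).val with hm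
    have hrR : r' ∈ R := hC.le hr'
    apply hrmax (r * ((⟨r', hrR⟩ : R) ^ m)⁻¹)
    · have h1 : π ((⟨r', hrR⟩ : R)) = 1 := (hπk _).2 hr'
      rw [map_mul, map_inv, map_pow, h1, one_pow, inv_one, mul_one, hry]
    · have h2 : (((r * ((⟨r', hrR⟩ : R) ^ m)⁻¹ : R) : E) : P) = ((r : E) : P) * ((r' : P) ^ m)⁻¹ := rfl
      rw [h2]
      rw [← h.coord.zero i (by omega) _ (mul_mem hri (inv_mem (pow_mem hr'i m))),
        h.coord.mul i (by omega) _ hri _ (inv_mem (pow_mem hr'i m)), h.coord.inv (by omega) (pow_mem hr'i m),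
        h.coord.pow (by omega) hr'i, hm, ZMod.natCast_val, ZMod.cast_id', id, div_mul_cancel₀ _ hφr', add_neg_cancel]
  -- the weight
  have hf1 : ((kB c d : B) : MulAut E) r ∈ R := hC.inv _ (kB c d).2 _ r.2
  have hσ1 : σ κ (π r).toAdd = (π ⟨_, hf1⟩).toAdd := hπe (kB c d) r ⟨_, hf1⟩ rfl
  have hf1P : (((((kB c d : B) : MulAut E) r : E)) : P) = ap (g ^ p) ((r : E) : P) := (h'.ext r).symm
  have hf1W : (((((kB c d : B) : MulAut E) r : E)) : P) ∈ W i := by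
    rw [hf1P]
    exact aInv_iff.mp (hP.aInv c.mc i hi) _ (pow_mem h.gA p) _ (c.E_le (r : E).2) hri
  have hφf1 : φ i (((((kB c d : B) : MulAut E) r : E)) : P) = s ^ (δ + i) * φ i ((r : E) : P) := by
    rw [hf1P, h'.wt.low i hi hin _ hri]
  have hs1 : (((⟨_, hf1⟩ : R) ^ l * r⁻¹ : R) : E) ∈ R' := by
    rw [← hπk]
    have h1 : (π ((⟨_, hf1⟩ : R) ^ l * r⁻¹)).toAdd = 0 := by
      rw [map_mul, map_inv, map_pow, toAdd_mul, toAdd_inv, toAdd_pow, ← hσ1, hry, ← Nat.cast_smul_eq_nsmul (ZMod p), hy',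
        add_neg_cancel]
    exact h1
  have hs1W : ((((⟨_, hf1⟩ : R) ^ l * r⁻¹ : R) : E) : P) ∈ W i := mul_mem (pow_mem hf1W l) (inv_mem hri)
  have hs1' := hkill _ hs1 hs1W
  have hls : (l : ZMod p) * s ^ (δ + i) = 1 := by
    have h1 : φ i ((((⟨_, hf1⟩ : R) ^ l * r⁻¹ : R) : E) : P) = 0 := (h.coord.zero i (by omega) _ hs1W).2 hs1'
    have h2 : ((((⟨_, hf1⟩ : R) ^ l * r⁻¹ : R) : E) : P) = (((((kB c d : B) : MulAut E) r : E)) : P) ^ l *
      (((r : E) : P))⁻¹ := rfl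
    rw [h2, h.coord.mul i (by omega) _ (pow_mem hf1W l) _ (inv_mem hri), h.coord.pow (by omega) hf1W,
      h.coord.inv (by omega) hri, hφf1] at h1
    have h3 : ((l : ZMod p) * s ^ (δ + i) - 1) * φ i ((r : E) : P) = 0 := by linear_combination h1
    exact sub_eq_zero.1 ((mul_eq_zero.1 h3).resolve_right hφr)
  have hsia : s ^ i = s ^ a := by
    have h1 : (l : ZMod p) * s ^ δ * s ^ i = (l : ZMod p) * s ^ δ * s ^ a := by
      rw [mul_assoc, mul_assoc, ← pow_add, ← pow_add, hls, h.ha]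
    exact mul_left_cancel₀ (mul_ne_zero h.l_ne (pow_ne_zero _ h.wt.ne)) h1
  have hprim : ∀ m : ℕ, s ^ m = 1 → p - 1 ∣ m := by
    intro m hm
    apply d.l_prim
    rw [← h.hl, ← pow_mul, mul_comm, pow_mul, hm, one_pow]
  have hia : i = a := by
    rcases Nat.lt_trichotomy i a with h6 | h6 | h6
    · exfalso
      have h7 : s ^ (a - i) = 1 := by
        have h8 : s ^ i * s ^ (a - i) = s ^ i * 1 := by rw [← pow_add, Nat.add_sub_cancel' h6.le, ← hsia, mul_one]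
        exact mul_left_cancel₀ (pow_ne_zero _ h.wt.ne) h8
      have h8 := Nat.le_of_dvd (by omega) (hprim _ h7)
      omega
    · exact h6
    · exfalso
      have h7 : s ^ (i - a) = 1 := by
        have h8 : s ^ a * s ^ (i - a) = s ^ a * 1 := by rw [← pow_add, Nat.add_sub_cancel' h6.le, hsia, mul_one]
        exact mul_left_cancel₀ (pow_ne_zero _ h.wt.ne) h8
      have h8 := Nat.le_of_dvd (by omega) (hprim _ h7)
      omega
  subst hia
  exact ⟨⟨r, r.2, hri, hrmax r hry⟩, hkill⟩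

end Cfsg.Agent.H782.CX
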