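import Cfsg.Agent.H782.CX.Basic
set_option linter.all false

/-!
# The torus of the exceptional configuration (helper782, block (W6) of S5267)
-/

set_option autoImplicit false
set_option linter.unusedSectionVars false

namespace Cfsg.Agent.H782.CX

open Subgroup Cfsg.Agent.H467.MaxClass Cfsg.Agent.H786 Cfsg.Agent.H779.Core
open scoped commutatorElement

universe u

variable {P : Type u} [Group P] [Finite P] {p n : ℕ} {W : ℕ → Subgroup P} [hW1 : (W 1).Normal]
  [hp : Fact p.Prime] {A : Subgroup (MulAut (W 1))} {φ : ℕ → P → ZMod p} {δ : ℕ}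

/-- `g` has weight `s` -/
structure Wt (n : ℕ) (W : ℕ → Subgroup P) (φ : ℕ → P → ZMod p) (δ : ℕ) (g : MulAut (W 1)) (s : ZMod p) : Prop where
  ne : s ≠ 0
  low : ∀ i, 1 ≤ i → i + 2 ≤ n → ∀ w ∈ W i, φ i (ap g w) = s ^ (δ + i) * φ i w
  top : ∀ w ∈ W (n - 1), φ (n - 1) (ap g w) = s ^ (2 * δ + (n - 1)) * φ (n - 1) w

theorem Wt.one (mc : MC P p n W) : Wt n W φ δ (1 : MulAut (W 1)) 1 := by
  have h4 := mc.four_le
  refine ⟨one_ne_zero, fun i hi hin w hw => ?_, fun w hw => ?_⟩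
  · rw [one_pow, one_mul, ap_of_mem _ (mc.antitone hi hw)]
    rfl
  · rw [one_pow, one_mul, ap_of_mem _ (mc.antitone (show 1 ≤ n - 1 by omega) hw)]
    rfl

theorem Wt.mul (mc : MC P p n W) (h : PClosed A) {g g' : MulAut (W 1)} (hg' : g' ∈ A) {s s' : ZMod p}
    (hs : Wt n W φ δ g s) (hs' : Wt n W φ δ g' s') : Wt n W φ δ (g * g') (s * s') := by
  have h4 := mc.four_le
  refine ⟨mul_ne_zero hs.ne hs'.ne, fun i hi hin w hw => ?_, fun w hw => ?_⟩
  · have hw1 : w ∈ W 1 := mc.antitone hi hw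
    rw [ap_mul_aut _ _ _ hw1, hs.low i hi hin _ (aInv_iff.mp (h.aInv mc i hi) g' hg' w hw1 hw), hs'.low i hi hin w hw,
      mul_pow, mul_assoc]
  · have hw1 : w ∈ W 1 := mc.antitone (show 1 ≤ n - 1 by omega) hw
    rw [ap_mul_aut _ _ _ hw1, hs.top _ (aInv_iff.mp (h.aInv mc (n - 1) (by omega)) g' hg' w hw1 hw), hs'.top w hw,
      mul_pow, mul_assoc]

theorem Wt.pow (mc : MC P p n W) (h : PClosed A) {g : MulAut (W 1)} (hg : g ∈ A) {s : ZMod p}
    (hs : Wt n W φ δ g s) (m : ℕ) : Wt n W φ δ (g ^ m) (s ^ m) := by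
  induction m with
  | zero => rw [pow_zero, pow_zero]; exact Wt.one mc
  | succ m ih => rw [pow_succ, pow_succ]; exact ih.mul mc h hg hs

theorem Wt.inv (mc : MC P p n W) (h : PClosed A) {g : MulAut (W 1)} (hg : g ∈ A) {s : ZMod p}
    (hs : Wt n W φ δ g s) : Wt n W φ δ g⁻¹ s⁻¹ := by
  have h4 := mc.four_le
  refine ⟨inv_ne_zero hs.ne, fun i hi hin w hw => ?_, fun w hw => ?_⟩
  · have hw1 : w ∈ W 1 := mc.antitone hi hw
    have h1 : ap g⁻¹ w ∈ W i := aInv_iff.mp (h.aInv mc i hi) g⁻¹ (inv_mem hg) w hw1 hw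
    have h2 := hs.low i hi hin _ h1
    rw [← ap_mul_aut _ _ _ hw1, mul_inv_cancel, ap_of_mem _ hw1] at h2
    change φ i w = _ at h2
    rw [h2, ← mul_assoc, ← mul_pow, inv_mul_cancel₀ hs.ne, one_pow, one_mul]
  · have hw1 : w ∈ W 1 := mc.antitone (show 1 ≤ n - 1 by omega) hw
    have h1 : ap g⁻¹ w ∈ W (n - 1) := aInv_iff.mp (h.aInv mc _ (by omega)) g⁻¹ (inv_mem hg) w hw1 hw
    have h2 := hs.top _ h1
    rw [← ap_mul_aut _ _ _ hw1, mul_inv_cancel, ap_of_mem _ hw1] at h2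
    change φ (n - 1) w = _ at h2
    rw [h2, ← mul_assoc, ← mul_pow, inv_mul_cancel₀ hs.ne, one_pow, one_mul]

variable {E : Subgroup P} {B H : Subgroup (MulAut E)}

/-- `g` extends `h` -/
def Ext (g : MulAut (W 1)) (h : MulAut E) : Prop := ∀ e : E, ap g (e : P) = ((h e : E) : P)

theorem Ext.mul (hE : E ≤ W 1) {g g' : MulAut (W 1)} {h h' : MulAut E} (hg : Ext g h) (hg' : Ext g' h') :
    Ext (g * g') (h * h') := by
  intro e
  rw [ap_mul_aut _ _ _ (hE e.2), hg' e, hg (h' e)]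
  rfl

theorem Ext.one (hE : E ≤ W 1) : Ext (1 : MulAut (W 1)) (1 : MulAut E) := by
  intro e
  rw [ap_of_mem _ (hE e.2)]
  rfl

theorem Ext.pow (hE : E ≤ W 1) {g : MulAut (W 1)} {h : MulAut E} (hg : Ext g h) (m : ℕ) : Ext (g ^ m) (h ^ m) := by
  induction m with
  | zero => rw [pow_zero, pow_zero]; exact Ext.one hE
  | succ m ih => rw [pow_succ, pow_succ]; exact ih.mul hE hg

theorem Ext.inv (hE : E ≤ W 1) {g : MulAut (W 1)} {h : MulAut E} (hg : Ext g h) : Ext g⁻¹ h⁻¹ := by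
  intro e
  have h1 := hg (h⁻¹ e)
  rw [MulAut.apply_inv_self] at h1
  rw [← h1, ← ap_mul_aut _ _ _ (hE (h⁻¹ e).2), inv_mul_cancel, ap_of_mem _ (hE (h⁻¹ e).2)]
  rfl

/-- elements of weight one -/
theorem of_wt_one (hP : PClosed A) (hφ : Coord p n W φ) (mc : MC P p n W) (syl : ¬ p ∣ (conjGrp (W 1)).relIndex A)
    (hE : E ≤ W 1) {g : MulAut (W 1)} (hg : g ∈ A) (hs : Wt n W φ δ g 1) {h : MulAut E} (hh : Ext g h) :
    ∃ y : normalizer (E : Set P), h = E.normalizerMonoidHom y := by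
  have h4 := mc.four_le
  have h1 : g ∈ conjGrp (W 1) := by
    refine mem_conj_of_trivial hP hφ mc syl hg fun i hi hin w hw => ?_
    rcases Nat.lt_or_ge (n - 2) i with h5 | h5
    · have h6 : i = n - 1 := by omega
      subst h6
      rw [hs.top w hw, one_pow, one_mul]
    · rw [hs.low i hi (by omega) w hw, one_pow, one_mul]
  obtain ⟨y, rfl⟩ := h1
  have h2 : ∀ e : E, ((h e : E) : P) = y * e * y⁻¹ := by
    intro e
    rw [← hh e, ap_of_mem _ (hE e.2)]
    rfl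
  have hy : y ∈ normalizer (E : Set P) := by
    rw [mem_normalizer_iff]
    intro e
    constructor
    · intro he
      have h3 := h2 ⟨e, he⟩
      change _ = y * e * y⁻¹ at h3
      rw [← h3]
      exact SetLike.coe_mem _
    · intro he
      have h3 := h2 (h⁻¹ ⟨_, he⟩)
      rw [MulAut.apply_inv_self] at h3
      change y * e * y⁻¹ = _ at h3
      have h5 : e = ((h⁻¹ ⟨_, he⟩ : E) : P) := by
        have h6 := mul_right_cancel h3
        exact mul_left_cancel h6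
      rw [h5]
      exact SetLike.coe_mem _
  refine ⟨⟨y, hy⟩, ?_⟩
  ext e
  rw [h2, nmh_apply]

end Cfsg.Agent.H782.CX
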