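import Cfsg.Agent.H782.CX.Wts
import Cfsg.Agent.H782.CX.Sec
import Cfsg.Agent.H782.CX.Alpha
import Cfsg.Agent.H782.CX.Gamma
import Cfsg.Agent.H782.CX.Basic
import Cfsg.Agent.H782.CX.Torus
import Cfsg.Agent.H782.CX.TorG
import Cfsg.Agent.H782.CX.Six
import Cfsg.Agent.H782.CX.W6
import Cfsg.Agent.H42.MaxEss.Fusion
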