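import Cfsg.Agent.H786.XData_mg
import Cfsg.Agent.H793.ExcD
set_option linter.all false

/-!
# Weights in exceptional groups (helper782, block (W6) of S5267)
-/

set_option autoImplicit false

namespace Cfsg.Agent.H782.CX

open Subgroup Cfsg.Agent.H467.MaxClass Cfsg.Agent.H786
open scoped commutatorElement

universe u

variable {P : Type u} [Group P] {p n : ℕ} {W : ℕ → Subgroup P} [hW1 : (W 1).Normal] {A : Subgroup (MulAut (W 1))}
  {φ : ℕ → P → ZMod p}

omit hW1 in
/-- the first nonzero commutator pairing -/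
theorem exists_deg (mc : MC P p n W) [hp : Fact p.Prime] (hnab : ¬ ⁅W 1, W 1⁆ ≤ W (n - 1)) :
    ∃ d i j : ℕ, 1 ≤ i ∧ 1 ≤ j ∧ i + j + d + 2 ≤ n ∧ ⁅W i, W j⁆ ≤ W (i + j + d) ∧
      ⁅W (i + 1), W j⁆ ≤ W (i + j + d + 1) ∧ ⁅W i, W (j + 1)⁆ ≤ W (i + j + d + 1) ∧
      ¬ ⁅W i, W j⁆ ≤ W (i + j + d + 1) := by
  classical
  have h4 := mc.four_le
  have hex : ∃ d : ℕ, ¬ ∀ i j, 1 ≤ i → 1 ≤ j → ⁅W i, W j⁆ ≤ W (min (i + j + d) (n - 1)) := by
    refine ⟨n, fun h => hnab ?_⟩
    have h1 := h 1 1 le_rfl le_rfl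
    rwa [min_eq_right (by omega)] at h1
  have hd := Nat.find_spec hex
  set d0 := Nat.find hex with hd0
  have hd1 : d0 ≠ 0 := by
    intro h0
    apply hd
    intro i j _ _
    rw [h0]
    exact (mc.comm_comm j i).trans (mc.antitone (by omega))
  obtain ⟨d, hdd⟩ := Nat.exists_eq_succ_of_ne_zero hd1
  have hQ : ∀ i j, 1 ≤ i → 1 ≤ j → ⁅W i, W j⁆ ≤ W (min (i + j + d) (n - 1)) := by
    have h1 := Nat.find_min hex (m := d) (by omega)
    push Not at h1
    exact h1
  rw [hdd] at hd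
  push Not at hd
  obtain ⟨i, j, hi, hj, hij⟩ := hd
  have hm : i + j + d + 2 ≤ n := by
    by_contra hcon
    apply hij
    have h1 := hQ i j hi hj
    have e : min (i + j + d.succ) (n - 1) = min (i + j + d) (n - 1) := by omega
    rw [e]
    exact h1
  refine ⟨d, i, j, hi, hj, hm, ?_, ?_, ?_, ?_⟩
  · have h1 := hQ i j hi hj
    rwa [min_eq_left (by omega)] at h1
  · have h1 := hQ (i + 1) j (by omega) hj
    have e : min (i + 1 + j + d) (n - 1) = i + j + d + 1 := by omega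
    rwa [e] at h1
  · have h1 := hQ i (j + 1) hi (by omega)
    have e : min (i + (j + 1) + d) (n - 1) = i + j + d + 1 := by omega
    rwa [e] at h1
  · have e : min (i + j + d.succ) (n - 1) = i + j + d + 1 := by omega
    rw [e] at hij
    exact hij

/-- **Weights** -/
theorem weights [Finite P] (h : PClosed A) (hφ : Coord p n W φ) (mc : MC P p n W) [hp : Fact p.Prime] (hp3 : 3 ≤ p)
    (exc : mc.Ksub (n - 2) ≠ W 1) (hnab : ¬ ⁅W 1, W 1⁆ ≤ W (n - 1)) :
    ∃ δ : ℕ, ∀ a ∈ A, ∃ s : ZMod p, s ≠ 0 ∧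
      (∀ i, 1 ≤ i → i + 2 ≤ n → ∀ w ∈ W i, φ i (ap a w) = s ^ (δ + i) * φ i w) ∧
      (∀ w ∈ W (n - 1), φ (n - 1) (ap a w) = s ^ (2 * δ + (n - 1)) * φ (n - 1) w) := by
  have h4 := mc.four_le
  obtain ⟨d, i0, j0, hi0, hj0, hm0, hc1, hc2, hc3, hc4⟩ := exists_deg mc hnab
  -- pairings
  have hpair : ∀ i j m, i < n → j < n → m < n → ⁅W i, W j⁆ ≤ W m → ⁅W (i + 1), W j⁆ ≤ W (m + 1) →
      ⁅W i, W (j + 1)⁆ ≤ W (m + 1) → ¬ ⁅W i, W j⁆ ≤ W (m + 1) →
      ∃ β : ZMod p, β ≠ 0 ∧ ∀ w ∈ W i, ∀ y ∈ W j, φ m ⁅w, y⁆ = β * φ i w * φ j y := by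
    intro i j m hi hj hm h1 h2 h3 hne
    obtain ⟨β, hβ⟩ := hφ.pairing mc hi hj hm h1 h2 h3
    refine ⟨β, ?_, hβ⟩
    rintro rfl
    apply hne
    rw [Subgroup.commutator_le]
    intro w hw y hy
    have h5 := hβ w hw y hy
    rw [zero_mul, zero_mul] at h5
    exact (hφ.zero m hm _ (h1 (commutator_mem_commutator hw hy))).mp h5
  refine ⟨d, fun a ha => ?_⟩
  choose! c hc0 hc using fun (i : ℕ) (hi : 1 ≤ i ∧ i < n) =>
    exists_scalar hφ mc ha hi.1 hi.2 (h.aInv mc i hi.1) (h.aInv mc (i + 1) (by omega))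
  obtain ⟨x, hx, hx1⟩ := hφ.exists_eq_one mc (i := 0) (by omega)
  obtain ⟨x', hx'⟩ := h.exists_comm ha x
  have hx0 : x' ∈ W 0 := by rw [mc.zero]; trivial
  have step : ∀ i, 1 ≤ i → i + 3 ≤ n → c (i + 1) = c i * φ 0 x' := by
    intro i hi hin
    have hdeg : ⁅W i, W (0 + 1)⁆ ≤ W (i + 1 + 1) := by
      rcases Nat.lt_or_ge i 2 with h3 | h3
      · have : i = 1 := by omega
        subst this
        rw [Subgroup.commutator_le]
        intro g hg k hk
        exact mc.comm_self hg hk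
      · exact mc.blackburn hp3 i h3 hin
    obtain ⟨β, hβ0, hβ⟩ := hpair i 0 (i + 1) (by omega) (by omega) (by omega)
      (by rw [mc.zero]; exact mc.comm_le i) (by rw [mc.zero]; exact mc.comm_le (i + 1)) hdeg
      (by
        rw [mc.zero, mc.comm_eq hi]
        intro h1
        obtain ⟨w, hw, hw'⟩ := mc.ne_succ (i := i + 1) (by omega)
        exact hw' (h1 hw))
    obtain ⟨w, hw, hw1⟩ := hφ.exists_eq_one mc (i := i) (by omega)
    have hle : W i ≤ W 1 := mc.antitone hi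
    have e1 : φ (i + 1) (ap a ⁅w, x⁆) = c (i + 1) * β := by
      rw [hc (i + 1) ⟨by omega, by omega⟩ _ (mc.comm_mem hw), hβ w hw x hx, hw1, hx1]
      ring
    have haw : ap a w ∈ W i := aInv_iff.mp (h.aInv mc i hi) a ha w (hle hw) hw
    have e2 : φ (i + 1) (ap a ⁅w, x⁆) = β * c i * φ 0 x' := by
      rw [hx' w (hle hw), hβ _ haw x' hx0, hc i ⟨hi, by omega⟩ w hw, hw1]
      ring
    have e3 : β * c (i + 1) = β * (c i * φ 0 x') := by rw [← mul_assoc, ← e2, e1, mul_comm]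
    exact mul_left_cancel₀ hβ0 e3
  set s := φ 0 x' with hs
  have hs0 : s ≠ 0 := by
    intro e
    have := step 1 le_rfl (by omega)
    rw [e, mul_zero] at this
    exact hc0 2 ⟨by omega, by omega⟩ this
  have hprod : ∀ i j m, 1 ≤ i → 1 ≤ j → 1 ≤ m → i < n → j < n → m < n → ⁅W i, W j⁆ ≤ W m →
      ⁅W (i + 1), W j⁆ ≤ W (m + 1) → ⁅W i, W (j + 1)⁆ ≤ W (m + 1) → ¬ ⁅W i, W j⁆ ≤ W (m + 1) → c m = c i * c j := by
    intro i j m hi1 hj1 hm1 hi hj hm h1 h2 h3 hne
    obtain ⟨β, hβ0, hβ⟩ := hpair i j m hi hj hm h1 h2 h3 hne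
    obtain ⟨w, hw, hw1⟩ := hφ.exists_eq_one mc hi
    obtain ⟨y, hy, hy1⟩ := hφ.exists_eq_one mc hj
    have hlei : W i ≤ W 1 := mc.antitone hi1
    have hlej : W j ≤ W 1 := mc.antitone hj1
    have haw : ap a w ∈ W i := aInv_iff.mp (h.aInv mc i hi1) a ha w (hlei hw) hw
    have hay : ap a y ∈ W j := aInv_iff.mp (h.aInv mc j hj1) a ha y (hlej hy) hy
    have e1 := hc m ⟨hm1, hm⟩ ⁅w, y⁆ (h1 (commutator_mem_commutator hw hy))
    rw [ap_comm a (hlei hw) (hlej hy), hβ _ haw _ hay, hβ w hw y hy, hc i ⟨hi1, hi⟩ w hw, hc j ⟨hj1, hj⟩ y hy, hw1,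
      hy1] at e1
    have e2 : β * (c i * c j) = β * c m := by linear_combination e1
    exact (mul_left_cancel₀ hβ0 e2).symm
  have hci : ∀ i, i + 3 ≤ n → c (i + 1) = c 1 * s ^ i := by
    intro i
    induction i with
    | zero => intro _; rw [pow_zero, mul_one]
    | succ i ih =>
      intro hi
      rw [step (i + 1) (by omega) (by omega), ih (by omega), pow_succ, mul_assoc]
  have hb : c 1 = s ^ (d + 1) := by
    have h1 := hprod i0 j0 (i0 + j0 + d) hi0 hj0 (by omega) (by omega) (by omega) (by omega) hc1 hc2 hc3 hc4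
    have e1 := hci (i0 + j0 + d - 1) (by omega)
    have e2 := hci (i0 - 1) (by omega)
    have e3 := hci (j0 - 1) (by omega)
    rw [Nat.sub_add_cancel (by omega)] at e1 e2 e3
    rw [e1, e2, e3] at h1
    have h2 : c 1 * s ^ (i0 - 1 + (j0 - 1)) * s ^ (d + 1) = c 1 * s ^ (i0 - 1 + (j0 - 1)) * c 1 := by
      calc c 1 * s ^ (i0 - 1 + (j0 - 1)) * s ^ (d + 1) = c 1 * s ^ (i0 + j0 + d - 1) := by
            rw [mul_assoc, ← pow_add]; congr 2; omega
        _ = c 1 * s ^ (i0 - 1) * (c 1 * s ^ (j0 - 1)) := h1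
        _ = c 1 * s ^ (i0 - 1 + (j0 - 1)) * c 1 := by rw [pow_add]; ring
    exact (mul_left_cancel₀ (mul_ne_zero (hc0 1 ⟨le_rfl, by omega⟩) (pow_ne_zero _ hs0)) h2).symm
  have hfin : ∀ i, 1 ≤ i → i + 2 ≤ n → c i = s ^ (d + i) := by
    intro i hi hin
    have h1 := hci (i - 1) (by omega)
    rw [Nat.sub_add_cancel hi, hb, ← pow_add] at h1
    rw [h1]
    congr 1
    omega
  have hlast : c (n - 1) = s ^ (2 * d + (n - 1)) := by
    have h1 := hprod 1 (n - 2) (n - 1) le_rfl (by omega) (by omega) (by omega) (by omega) (by omega)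
      ((mc.comm_comm (n - 2) 1).trans (mc.antitone (by omega)))
      ((mc.comm_comm (n - 2) (1 + 1)).trans (mc.antitone (by omega)))
      ((mc.comm_comm (n - 2 + 1) 1).trans (mc.antitone (by omega)))
      (by
        intro h2
        rw [Nat.sub_add_cancel (by omega), mc.bot] at h2
        obtain ⟨v, hv, hv'⟩ := mc.ne_succ (i := 1) (by omega)
        obtain ⟨w, hw, hw'⟩ := mc.ne_succ (i := n - 2) (by omega)
        apply Cfsg.Agent.H793.ExcA.pairing mc hp3 exc (i := 1) (j := n - 2) le_rfl (by omega) (by omega) hv hv' hw hw'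
        exact Subgroup.mem_bot.1 (h2 (commutator_mem_commutator hv hw)))
    rw [h1, hb, hfin (n - 2) (by omega) (by omega), ← pow_add]
    congr 1
    omega
  refine ⟨s, hs0, fun i hi hin w hw => ?_, fun w hw => ?_⟩
  · rw [hc i ⟨hi, by omega⟩ w hw, hfin i hi hin]
  · rw [hc (n - 1) ⟨by omega, by omega⟩ w hw, hlast]

/-- an element of `A` acting trivially on all the layers comes from `P` -/
theorem mem_conj_of_trivial [Finite P] (h : PClosed A) (hφ : Coord p n W φ) (mc : MC P p n W) [hp : Fact p.Prime]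
    (syl : ¬ p ∣ (conjGrp (W 1)).relIndex A) {g : MulAut (W 1)} (hg : g ∈ A)
    (htriv : ∀ i, 1 ≤ i → i < n → ∀ w ∈ W i, φ i (ap g w) = φ i w) : g ∈ conjGrp (W 1) := by
  have hP : IsPGroup p P := IsPGroup.of_card mc.card_group
  -- `g` is a `p`-element
  have hpow : ∀ k : ℕ, ∀ i, 1 ≤ i → i < n → ∀ w ∈ W i, φ i (ap (g ^ k) w) = φ i w := by
    intro k
    induction k with
    | zero =>
      intro i hi hin w hw
      rw [pow_zero, ap_of_mem _ (mc.antitone hi hw)]
      rfl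
    | succ k ih =>
      intro i hi hin w hw
      have hw1 : w ∈ W 1 := mc.antitone hi hw
      rw [pow_succ, ap_mul_aut _ _ _ hw1, ih i hi hin _ (aInv_iff.mp (h.aInv mc i hi) g hg w hw1 hw),
        htriv i hi hin w hw]
  obtain ⟨r, m, hm, hord⟩ := Nat.exists_eq_pow_mul_and_not_dvd (n := orderOf g) (orderOf_pos g).ne' p hp.out.ne_one
  set g' := g ^ p ^ r with hg'
  have hg'A : g' ∈ A := pow_mem hg _
  have hg'm : g' ^ m = 1 := by rw [hg', ← pow_mul, ← hord, pow_orderOf_eq_one]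
  have hg'1 : ∀ k : ℕ, ∀ w ∈ W (n - k), w ∈ W 1 → ap g' w = w := by
    intro k
    induction k with
    | zero =>
      intro w hw _
      rw [Nat.sub_zero, mc.bot, Subgroup.mem_bot] at hw
      rw [hw, ap_one]
    | succ k ih =>
      intro w hw hw1
      rcases Nat.lt_or_ge (n - (k + 1)) 1 with h0 | h0
      · exact ih w (mc.antitone (by omega) hw1) hw1
      · rcases Nat.lt_or_ge (n - (k + 1)) n with h1 | h1
        · have h2 := hpow (p ^ r) (n - (k + 1)) h0 h1 w hw
          rw [← hg'] at h2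
          have h3 : ap g' w ∈ W (n - (k + 1)) := aInv_iff.mp (h.aInv mc _ h0) g' hg'A w hw1 hw
          set c := w⁻¹ * ap g' w with hc
          have hcW : c ∈ W (n - (k + 1) + 1) := by
            rw [← hφ.zero _ h1 c (mul_mem (inv_mem hw) h3), hc, hφ.mul _ h1 _ (inv_mem hw) _ h3, hφ.inv h1 hw, h2]
            ring
          have hc1 : c ∈ W 1 := mc.antitone (by omega) hcW
          have hcf : ap g' c = c := ih c (by rwa [show n - k = n - (k + 1) + 1 by omega]) hc1
          have hgw : ap g' w = w * c := by rw [hc]; group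
          have h5 : ∀ j : ℕ, ap (g' ^ j) w = w * c ^ j := by
            intro j
            induction j with
            | zero => rw [pow_zero, pow_zero, mul_one, ap_of_mem _ hw1]; rfl
            | succ j ihj =>
              have h6 : ∀ i : ℕ, ap g' (c ^ i) = c ^ i := by
                intro i
                induction i with
                | zero => rw [pow_zero, ap_one]
                | succ i ihi => rw [pow_succ, ap_mul _ (pow_mem hc1 i) hc1, ihi, hcf]
              rw [pow_succ', ap_mul_aut _ _ _ hw1, ihj, ap_mul _ hw1 (pow_mem hc1 j), h6, hgw, mul_assoc, ← pow_succ']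
          have h6 := h5 m
          rw [hg'm, ap_of_mem _ hw1] at h6
          have h7 : c ^ m = 1 := by
            have h8 : w = w * c ^ m := h6
            exact (mul_eq_left.1 h8.symm)
          obtain ⟨N, hN⟩ := hP c
          have h8 : c = 1 := by
            have h9 : orderOf c ∣ m := orderOf_dvd_of_pow_eq_one h7
            have h10 : orderOf c ∣ p ^ N := orderOf_dvd_of_pow_eq_one hN
            have h11 : Nat.Coprime m (p ^ N) := Nat.Coprime.pow_right _ ((Nat.Prime.coprime_iff_not_dvd hp.out).2 hm).symm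
            exact orderOf_eq_one_iff.1 (Nat.eq_one_of_dvd_coprimes h11 h9 h10)
          rw [hgw, h8, mul_one]
        · have h2 : w = 1 := by
            rw [mc.bot_of_le h1, Subgroup.mem_bot] at hw
            exact hw
          rw [h2, ap_one]
  have hg'one : g' = 1 := by
    ext w
    have h1 := hg'1 (n - 1) w (by rw [show n - (n - 1) = 1 by have := mc.four_le; omega]; exact w.2) w.2
    rw [ap_coe] at h1
    exact h1
  -- `conjGrp` is normal in `A`
  have hnorm : ((conjGrp (W 1)).subgroupOf A).Normal := by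
    refine ⟨fun c hc a => ?_⟩
    exact h a a.2 c hc
  have h1 := Subgroup.pow_index_mem ((conjGrp (W 1)).subgroupOf A) (⟨g, hg⟩ : A)
  have h2 : g ^ (conjGrp (W 1)).relIndex A ∈ conjGrp (W 1) := h1
  have h3 : g ^ p ^ r ∈ conjGrp (W 1) := by rw [← hg', hg'one]; exact one_mem _
  have h4 : Nat.Coprime ((conjGrp (W 1)).relIndex A) (p ^ r) :=
    Nat.Coprime.pow_right _ ((Nat.Prime.coprime_iff_not_dvd hp.out).2 syl).symm
  obtain ⟨u, v, huv⟩ := h4.isCoprime
  have h5 : g = (g ^ (conjGrp (W 1)).relIndex A) ^ u * (g ^ p ^ r) ^ v := by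
    rw [← zpow_natCast g, ← zpow_natCast g (p ^ r), ← zpow_mul, ← zpow_mul, ← zpow_add]
    have : ((conjGrp (W 1)).relIndex A : ℤ) * u + ((p ^ r : ℕ) : ℤ) * v = 1 := by rw [← huv]; ring
    rw [this, zpow_one]
  rw [h5]
  exact mul_mem (zpow_mem h2 u) (zpow_mem h3 v)

end Cfsg.Agent.H782.CX
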